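import Cfsg.Agent.Lib.Cert.M11o.L
import Cfsg.Agent.Lib.Cert.Out2

set_option autoImplicit false
set_option maxRecDepth 100000

namespace Cfsg.Agent.Ct.M11o

open Cfsg.Agent.PC

open Cfsg.Agent.Fi Cfsg.Agent.Ct
def Ve_t : TL := (TL.node (TL.node (TL.node (TL.leaf [nat_lit 0, nat_lit 11, nat_lit 0, nat_lit 10, nat_lit 11, nat_lit 0, nat_lit 11, nat_lit 10, nat_lit 0, nat_lit 10, nat_lit 11]) (TL.leaf [nat_lit 11, nat_lit 10, nat_lit 11, nat_lit 10, nat_lit 0, nat_lit 10, nat_lit 11, nat_lit 0, nat_lit 10, nat_lit 11, nat_lit 10])) (TL.leaf [nat_lit 11, nat_lit 10, nat_lit 11, nat_lit 10, nat_lit 11, nat_lit 10, nat_lit 11, nat_lit 0, nat_lit 11, nat_lit 0, nat_lit 11, nat_lit 10, nat_lit 11, nat_lit 10, nat_lit 11, nat_lit 0, nat_lit 11])) (TL.node (TL.leaf [nat_lit 0, nat_lit 10, nat_lit 11, nat_lit 0, nat_lit 11, nat_lit 10, nat_lit 0, nat_lit 11, nat_lit 0, nat_lit 11, nat_lit 10, nat_lit 11, nat_lit 10, nat_lit 11, nat_lit 0, nat_lit 11, nat_lit 0]) (TL.leaf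 [nat_lit 0, nat_lit 10, nat_lit 11, nat_lit 10, nat_lit 0, nat_lit 11, nat_lit 0, nat_lit 10, nat_lit 11, nat_lit 0, nat_lit 10, nat_lit 11, nat_lit 0])))
noncomputable def Ve (i : ℕ) : List ℕ := TL.get Ve_t i
theorem cC : 48 ∣ Nat.card (Subgroup.centralizer {q 0}) := loc.cen ▸ md.dvdC sy (by decide) (l := [([nat_lit 3, nat_lit 4, nat_lit 1], (nat_lit 3))]) (by decide +kernel) ⟨by decide, by decide⟩
theorem au : Au (q 0) := loc.autz
theorem cs : clS Q B sg si (nat_lit 24) (nat_lit 12) (nat_lit 0) [nat_lit 17, nat_lit 1, nat_lit 16, nat_lit 12] = 0 := by decide +kernel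
theorem cl : Cl q sg 0 V 165 := md.cl cs h3 cC (by rw [Spor.card11]; decide)
theorem o2 : CardLE (Fx q [nat_lit 11, nat_lit 10, nat_lit 0]) 1 := (md11).fin (gen_sub_top Spor.gen11) md Ve (by decide +kernel)
def W1_t : TL := (TL.node (TL.node (TL.leaf [nat_lit 12, nat_lit 0, nat_lit 10, nat_lit 0, nat_lit 12, nat_lit 0, nat_lit 10, nat_lit 0, nat_lit 12, nat_lit 0, nat_lit 10, nat_lit 0]) (TL.leaf [nat_lit 12, nat_lit 10, nat_lit 0, nat_lit 10, nat_lit 12, nat_lit 10, nat_lit 0, nat_lit 10, nat_lit 12, nat_lit 10, nat_lit 0, nat_lit 10, nat_lit 12, nat_lit 10, nat_lit 0, nat_lit 10, nat_lit 12, nat_lit 10, nat_lit 0, nat_lit 10])) (TL.leaf [nat_lit 12, nat_lit 0, nat_lit 10, nat_lit 0, nat_lit 10, nat_lit 12, nat_lit 10, nat_lit 12, nat_lit 0, nat_lit 10, nat_lit 0, nat_lit 10, nat_lit 12, nat_lit 10]))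
noncomputable def W1 (i : ℕ) : List ℕ := TL.get W1_t i
def Z1_t : TN := (TN.leaf (nat_lit 0x48190320640c819032044148110320e4148190320a40c8190320641c829032044088190320a40c8390320640c8190320640c8190320640c8190320640c8190320640c8190320c414819062064108110520640c8390320640c8190320640c8190320640c8110320640c8190220640c8190200040c8210320640c8190320640c8190320e40c829032064088190320640c8190520640c8190320640c811032064148300120640c819032064088190320a4148190320640c8190220640c8190620a40c829052064088190320640c8190220e4148190220640c8190320640c8110420841c81))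
noncomputable def Z1 (i : ℕ) : ℕ := get9 Z1_t (nat_lit 11) (nat_lit 2047) i
noncomputable def u1 : ℕ → ℕ := lcE Q B (nat_lit 24) (nat_lit 12) sg si (nat_lit 0) V W1 (nat_lit 3) (nat_lit 0) Z1
def W0_t1 : TL := (TL.node (TL.node (TL.node (TL.node (TL.node (TL.node (TL.leaf [nat_lit 0, nat_lit 12, nat_lit 0, nat_lit 12, nat_lit 0, nat_lit 12, nat_lit 0, nat_lit 12]) (TL.leaf [nat_lit 0, nat_lit 12, nat_lit 0, nat_lit 12])) (TL.leaf [])) (TL.node (TL.leaf []) (TL.leaf []))) (TL.node (TL.node (TL.leaf []) (TL.leaf [])) (TL.node (TL.leaf []) (TL.leaf [])))) (TL.node (TL.node (TL.node (TL.leaf []) (TL.leaf [])) (TL.node (TL.leaf []) (TL.leaf []))) (TL.node (TL.node (TL.leaf []) (TL.leaf [])) (TL.node (TL.leaf []) (TL.leaf []))))) (TL.node (TL.node (TL.node (TL.node (TL.leaf []) (TL.leaf [])) (TL.node (TL.leaf []) (TL.leaf []))) (TL.node (TL.node (TL.leaf []) (TL.leaf [])) (TL.node (TL.leaf []) (TL.leaf [])))) (TL.node (TL.node (TL.node (TL.leaf []) (TL.leaf []))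 (TL.node (TL.leaf []) (TL.leaf []))) (TL.node (TL.node (TL.leaf []) (TL.leaf [])) (TL.node (TL.leaf []) (TL.leaf []))))))
def W0_t2 : TL := (TL.node (TL.node (TL.node (TL.node (TL.node (TL.leaf []) (TL.leaf [])) (TL.node (TL.leaf []) (TL.leaf []))) (TL.node (TL.node (TL.leaf []) (TL.leaf [])) (TL.node (TL.leaf []) (TL.leaf [])))) (TL.node (TL.node (TL.node (TL.leaf []) (TL.leaf [])) (TL.node (TL.leaf []) (TL.leaf []))) (TL.node (TL.node (TL.leaf []) (TL.leaf [])) (TL.node (TL.leaf []) (TL.leaf []))))) (TL.node (TL.node (TL.node (TL.node (TL.leaf []) (TL.leaf [])) (TL.node (TL.leaf []) (TL.leaf []))) (TL.node (TL.node (TL.leaf []) (TL.leaf [])) (TL.node (TL.leaf []) (TL.leaf [])))) (TL.node (TL.node (TL.node (TL.leaf []) (TL.leaf [])) (TL.node (TL.leaf []) (TL.leaf []))) (TL.node (TL.node (TL.leaf []) (TL.leaf [])) (TL.node (TL.leaf []) (TL.leaf []))))))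
def W0_t : TL := (TL.node W0_t1 W0_t2)
noncomputable def W0 (i : ℕ) : List ℕ := TL.get W0_t i
def Z0_t : TN := (TN.leaf (nat_lit 0x48100120640881903206408819032040048190200240c819032040048190320640c8190320640c8190320640c810012040048190320640c81903204000009032064080190220640c8190320400481902006408001020044080090220640c8190320640c81903204004810020000080090320440c8100200440c810032064080100000240c8190320640c8190320640c819032040048190320640c8100120640c8190200240c8190320640c819032064080090320440c81902002408819032064080000320640c81003206408819022040080190320640c819032040048190320640800))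
noncomputable def Z0 (i : ℕ) : ℕ := get9 Z0_t (nat_lit 11) (nat_lit 2047) i
noncomputable def u0 : ℕ → ℕ := lcE Q B (nat_lit 24) (nat_lit 12) sg si (nat_lit 0) V W0 (nat_lit 1) (nat_lit 1) Z0
theorem v1x0 : Nat.beq (rng u1 (nat_lit 0) (nat_lit 165)) (nat_lit 0) = true := by decide +kernel
theorem v0x0 : Nat.beq (rng u0 (nat_lit 0) (nat_lit 165)) (nat_lit 0) = true := by decide +kernel
theorem k1 : ∀ i < 165, u1 i = 0 := by
  have h := zero_lt_zero u1
  have h := zero_lt_add (a := (nat_lit 0)) (n := (nat_lit 165)) (b := (nat_lit 165)) h v1x0 rfl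
  exact h
theorem o1 : CardLE (Fx q [nat_lit 10, nat_lit 0]) 2 := md.lvc cs cl au (aw := [nat_lit 5, nat_lit 5, nat_lit 7, nat_lit 7, nat_lit 7, nat_lit 5]) (y := 11) (by decide +kernel) k1 (a := 2) (by decide +kernel) o2
theorem k0 : ∀ i < 165, u0 i = 0 := by
  have h := zero_lt_zero u0
  have h := zero_lt_add (a := (nat_lit 0)) (n := (nat_lit 165)) (b := (nat_lit 165)) h v0x0 rfl
  exact h
theorem o0 : CardLE (Fx q [nat_lit 0]) 48 := md.lvc cs cl au (aw := [nat_lit 6, nat_lit 6, nat_lit 7]) (y := 10) (by decide +kernel) k0 (a := 24) (by decide +kernel) o1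
theorem aut : Nat.card (MulAut (G11)) ≤ 165 * 48 := cl.top au o0
theorem out : Nat.card (Cfsg.Out (G11)) = 1 := out_one (ctr11) aut (by rw [Spor.card11]; decide)

end Cfsg.Agent.Ct.M11o
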