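import Cfsg.Agent.Lib.Cert.Mat
import Cfsg.Agent.Lib.Cert.Out

set_option autoImplicit false
set_option maxRecDepth 100000

namespace Cfsg.Agent.Ct.M11o

open Cfsg.Agent.PC

open Cfsg.Agent.Fi Cfsg.Agent.Ct
def W_t : TL := (TL.node (TL.node (TL.node (TL.node (TL.leaf [nat_lit 2, nat_lit 1, nat_lit 1, nat_lit 2, nat_lit 4, nat_lit 4, nat_lit 4, nat_lit 4, nat_lit 4, nat_lit 4, nat_lit 4, nat_lit 4, nat_lit 4, nat_lit 4, nat_lit 3, nat_lit 3, nat_lit 3]) (TL.leaf [nat_lit 3, nat_lit 3, nat_lit 1, nat_lit 1, nat_lit 1, nat_lit 0, nat_lit 4, nat_lit 4, nat_lit 4, nat_lit 4, nat_lit 4, nat_lit 4, nat_lit 4, nat_lit 4, nat_lit 4, nat_lit 4])) (TL.leaf [nat_lit 1, nat_lit 3, nat_lit 4, nat_lit 1, nat_lit 1, nat_lit 1, nat_lit 3, nat_lit 3, nat_lit 3])) (TL.node (TL.node (TL.leaf [nat_lit 2, nat_lit 4, nat_lit 4, nat_lit 4, nat_lit 4, nat_lit 4, nat_lit 4, nat_lit 4, nat_lit 4, nat_lit 4, nat_lit 4, nat_lit 2, nat_lit 2,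 nat_lit 2, nat_lit 4, nat_lit 4, nat_lit 0, nat_lit 4, nat_lit 4, nat_lit 4, nat_lit 4, nat_lit 4, nat_lit 4, nat_lit 4, nat_lit 4, nat_lit 4, nat_lit 4]) (TL.leaf [nat_lit 2, nat_lit 2, nat_lit 2, nat_lit 3, nat_lit 3, nat_lit 3, nat_lit 0, nat_lit 0, nat_lit 0, nat_lit 2, nat_lit 2, nat_lit 2, nat_lit 0, nat_lit 4, nat_lit 3, nat_lit 3, nat_lit 3])) (TL.leaf [nat_lit 3, nat_lit 0, nat_lit 0, nat_lit 0, nat_lit 4, nat_lit 1]))) (TL.node (TL.node (TL.node (TL.leaf [nat_lit 2, nat_lit 1, nat_lit 2, nat_lit 2, nat_lit 3, nat_lit 4]) (TL.leaf [])) (TL.leaf [nat_lit 3, nat_lit 3, nat_lit 3, nat_lit 4, nat_lit 4, nat_lit 4, nat_lit 4, nat_lit 4, nat_lit 4, nat_lit 4, nat_lit 4, nat_lit 4, nat_lit 4, nat_lit 1, nat_lit 1, nat_lit 1, nat_lit 4, nat_lit 0, nat_lit 0, nat_lit 0, nat_lit 3])) (TL.node (TL.node (TL.leaf [nat_lit 3, nat_lit 0, nat_lit 0, nat_lit 0, nat_lit 2, nat_lit 4, nat_lit 4, nat_lit 4, nat_lit 4, nat_lit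 4, nat_lit 4, nat_lit 4, nat_lit 4, nat_lit 4, nat_lit 4, nat_lit 3, nat_lit 0, nat_lit 0, nat_lit 0, nat_lit 1]) (TL.leaf [nat_lit 3, nat_lit 1, nat_lit 2, nat_lit 1])) (TL.leaf [nat_lit 1, nat_lit 4, nat_lit 4, nat_lit 4, nat_lit 4, nat_lit 4, nat_lit 4, nat_lit 4, nat_lit 4, nat_lit 4, nat_lit 4, nat_lit 0, nat_lit 0, nat_lit 0, nat_lit 4, nat_lit 3]))))
noncomputable def W (i : ℕ) : List ℕ := TL.get W_t i
def Qf_t : TN := (TN.leaf (nat_lit 0x55a74ac0f2795a45dc4888dcc32420896aa98ee23b9015d12d79ac494180bdab49ca307b9ac5a928398a418820b1cb1589e153992a4da9b8ea6222003dcab532818b92d9bd02b12a334a003d691bc9497acc29d890704a3435809aad55ca8879c4174603bb4a9230c02d954749e88cc8c5d450386ed1a4c02de91a99449ae427b921b40e3431a0b5e8e79a6d52c2cac53228cf0408803962aa41c3abccc9ad2db92c808a40bd9cb50de18d48ca4d263a0ad90a00))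
noncomputable def Qf (i : ℕ) : ℕ := get9 Qf_t (nat_lit 5) (nat_lit 31) i
noncomputable def Q (j c : ℕ) : ℕ := Qf (Nat.add (Nat.mul j (nat_lit 24)) c)
def B : List ℕ := [nat_lit 17, nat_lit 1, nat_lit 16, nat_lit 14, nat_lit 12, nat_lit 0, nat_lit 23]
noncomputable def q (j : ℕ) : G11 := ev (sub G11 (Spor.fam Spor.c12)) (W j)
noncomputable def f0 : ℕ → ℕ := tabE (Spor.TP Spor.c12) Q W (nat_lit 12)
theorem a0 : Nat.beq (rng f0 (nat_lit 0) (nat_lit 24)) (nat_lit 0) = true := by decide +kernel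
theorem h0 : ∀ i < 24, f0 i = 0 := by
  have h := zero_lt_zero f0
  have h := zero_lt_add (a := (nat_lit 0)) (n := (nat_lit 24)) (b := (nat_lit 24)) h a0 rfl
  exact h
theorem md : Md Spor.gp 24 B q Q 12 := (md11).words (by decide +kernel) h0
def R_t1 : TL := (TL.node (TL.node (TL.node (TL.node (TL.node (TL.node (TL.leaf []) (TL.leaf [nat_lit 0])) (TL.node (TL.leaf [nat_lit 0]) (TL.leaf [nat_lit 0]))) (TL.node (TL.node (TL.leaf []) (TL.leaf [])) (TL.node (TL.leaf []) (TL.leaf [])))) (TL.node (TL.node (TL.node (TL.leaf []) (TL.leaf [])) (TL.node (TL.leaf []) (TL.leaf []))) (TL.node (TL.node (TL.leaf []) (TL.leaf [])) (TL.node (TL.leaf []) (TL.leaf []))))) (TL.node (TL.node (TL.node (TL.node (TL.leaf []) (TL.leaf [])) (TL.node (TL.leaf []) (TL.leaf []))) (TL.node (TL.node (TL.leaf []) (TL.leaf [])) (TL.node (TL.leaf []) (TL.leaf [])))) (TL.node (TL.node (TL.node (TL.leaf []) (TL.leaf [])) (TL.node (TL.leaf []) (TL.leaf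 []))) (TL.node (TL.node (TL.leaf []) (TL.leaf [])) (TL.node (TL.leaf []) (TL.leaf [])))))) (TL.node (TL.node (TL.node (TL.node (TL.node (TL.leaf []) (TL.leaf [nat_lit 0])) (TL.node (TL.leaf []) (TL.leaf [nat_lit 1, nat_lit 2]))) (TL.node (TL.node (TL.leaf []) (TL.leaf [])) (TL.node (TL.leaf []) (TL.leaf [])))) (TL.node (TL.node (TL.node (TL.leaf []) (TL.leaf [])) (TL.node (TL.leaf []) (TL.leaf []))) (TL.node (TL.node (TL.leaf []) (TL.leaf [])) (TL.node (TL.leaf []) (TL.leaf []))))) (TL.node (TL.node (TL.node (TL.node (TL.leaf []) (TL.leaf [])) (TL.node (TL.leaf []) (TL.leaf []))) (TL.node (TL.node (TL.leaf []) (TL.leaf [])) (TL.node (TL.leaf []) (TL.leaf [])))) (TL.node (TL.node (TL.node (TL.leaf []) (TL.leaf [])) (TL.node (TL.leaf []) (TL.leaf []))) (TL.node (TL.node (TL.leaf []) (TL.leaf [])) (TL.node (TL.leaf []) (TL.leaf [])))))))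
def R_t2 : TL := (TL.node (TL.node (TL.node (TL.node (TL.node (TL.node (TL.leaf []) (TL.leaf [nat_lit 0, nat_lit 1])) (TL.node (TL.leaf [nat_lit 0]) (TL.leaf [nat_lit 1]))) (TL.node (TL.node (TL.leaf []) (TL.leaf [])) (TL.node (TL.leaf []) (TL.leaf [])))) (TL.node (TL.node (TL.node (TL.leaf []) (TL.leaf [])) (TL.node (TL.leaf []) (TL.leaf []))) (TL.node (TL.node (TL.leaf []) (TL.leaf [])) (TL.node (TL.leaf []) (TL.leaf []))))) (TL.node (TL.node (TL.node (TL.node (TL.leaf []) (TL.leaf [])) (TL.node (TL.leaf []) (TL.leaf []))) (TL.node (TL.node (TL.leaf []) (TL.leaf [])) (TL.node (TL.leaf []) (TL.leaf [])))) (TL.node (TL.node (TL.node (TL.leaf []) (TL.leaf [])) (TL.node (TL.leaf []) (TL.leaf []))) (TL.node (TL.node (TL.leaf []) (TL.leaf [])) (TL.node (TL.leaf []) (TL.leaf [])))))) (TL.node (TL.node (TL.node (TL.node (TL.node (TL.leaf []) (TL.leaf [])) (TL.node (TL.leaf []) (TL.leaf [nat_lit 1]))) (TL.node (TL.node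 (TL.leaf []) (TL.leaf [])) (TL.node (TL.leaf []) (TL.leaf [])))) (TL.node (TL.node (TL.node (TL.leaf []) (TL.leaf [])) (TL.node (TL.leaf []) (TL.leaf []))) (TL.node (TL.node (TL.leaf []) (TL.leaf [])) (TL.node (TL.leaf []) (TL.leaf []))))) (TL.node (TL.node (TL.node (TL.node (TL.leaf []) (TL.leaf [])) (TL.node (TL.leaf []) (TL.leaf []))) (TL.node (TL.node (TL.leaf []) (TL.leaf [])) (TL.node (TL.leaf []) (TL.leaf [])))) (TL.node (TL.node (TL.node (TL.leaf []) (TL.leaf [])) (TL.node (TL.leaf []) (TL.leaf []))) (TL.node (TL.node (TL.leaf []) (TL.leaf [])) (TL.node (TL.leaf []) (TL.leaf [])))))))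
def R_t : TL := (TL.node R_t1 R_t2)
noncomputable def R (i : ℕ) : List ℕ := TL.get R_t i
def Zm (i : ℕ) : ℕ := Nat.land (Nat.shiftRight (nat_lit 0x95555554) (Nat.mul (nat_lit 2) i)) (nat_lit 3)
def Zc (i : ℕ) : ℕ := Nat.land (Nat.shiftRight (nat_lit 0x8618618a28a28618618a2000) (Nat.mul (nat_lit 6) i)) (nat_lit 63)
def U_t1 : TL := (TL.node (TL.node (TL.node (TL.node (TL.node (TL.node (TL.leaf [nat_lit 0]) (TL.leaf [nat_lit 0])) (TL.leaf [nat_lit 0])) (TL.node (TL.leaf [nat_lit 0]) (TL.leaf [nat_lit 0]))) (TL.node (TL.node (TL.node (TL.leaf []) (TL.leaf [])) (TL.leaf [])) (TL.node (TL.leaf []) (TL.leaf [])))) (TL.node (TL.node (TL.node (TL.node (TL.leaf []) (TL.leaf [])) (TL.leaf [])) (TL.node (TL.leaf []) (TL.leaf []))) (TL.node (TL.node (TL.node (TL.leaf []) (TL.leaf [])) (TL.leaf [])) (TL.node (TL.leaf []) (TL.leaf []))))) (TL.node (TL.node (TL.node (TL.node (TL.node (TL.leaf []) (TL.leaf [])) (TL.leaf [])) (TL.node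 (TL.leaf []) (TL.leaf []))) (TL.node (TL.node (TL.node (TL.leaf []) (TL.leaf [])) (TL.leaf [])) (TL.node (TL.leaf []) (TL.leaf [])))) (TL.node (TL.node (TL.node (TL.node (TL.leaf []) (TL.leaf [])) (TL.leaf [])) (TL.node (TL.leaf []) (TL.leaf []))) (TL.node (TL.node (TL.node (TL.leaf []) (TL.leaf [])) (TL.leaf [])) (TL.node (TL.leaf []) (TL.leaf []))))))
def U_t2 : TL := (TL.node (TL.node (TL.node (TL.node (TL.node (TL.node (TL.leaf [nat_lit 2]) (TL.leaf [nat_lit 0, nat_lit 1])) (TL.leaf [nat_lit 2])) (TL.node (TL.leaf [nat_lit 0, nat_lit 2]) (TL.leaf [nat_lit 1, nat_lit 2]))) (TL.node (TL.node (TL.node (TL.leaf []) (TL.leaf [])) (TL.leaf [])) (TL.node (TL.leaf []) (TL.leaf [])))) (TL.node (TL.node (TL.node (TL.node (TL.leaf []) (TL.leaf [])) (TL.leaf [])) (TL.node (TL.leaf []) (TL.leaf []))) (TL.node (TL.node (TL.node (TL.leaf []) (TL.leaf [])) (TL.leaf [])) (TL.node (TL.leaf []) (TL.leaf []))))) (TL.node (TL.node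 (TL.node (TL.node (TL.node (TL.leaf []) (TL.leaf [])) (TL.leaf [])) (TL.node (TL.leaf []) (TL.leaf []))) (TL.node (TL.node (TL.node (TL.leaf []) (TL.leaf [])) (TL.leaf [])) (TL.node (TL.leaf []) (TL.leaf [])))) (TL.node (TL.node (TL.node (TL.node (TL.leaf []) (TL.leaf [])) (TL.leaf [])) (TL.node (TL.leaf []) (TL.leaf []))) (TL.node (TL.node (TL.node (TL.leaf []) (TL.leaf [])) (TL.leaf [])) (TL.node (TL.leaf []) (TL.leaf []))))))
def U_t3 : TL := (TL.node U_t1 U_t2)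
def U_t4 : TL := (TL.node (TL.node (TL.node (TL.node (TL.node (TL.node (TL.leaf [nat_lit 1]) (TL.leaf [nat_lit 0, nat_lit 2])) (TL.leaf [nat_lit 0, nat_lit 1])) (TL.node (TL.leaf [nat_lit 1]) (TL.leaf [nat_lit 1]))) (TL.node (TL.node (TL.node (TL.leaf []) (TL.leaf [])) (TL.leaf [])) (TL.node (TL.leaf []) (TL.leaf [])))) (TL.node (TL.node (TL.node (TL.node (TL.leaf []) (TL.leaf [])) (TL.leaf [])) (TL.node (TL.leaf []) (TL.leaf []))) (TL.node (TL.node (TL.node (TL.leaf []) (TL.leaf [])) (TL.leaf [])) (TL.node (TL.leaf []) (TL.leaf []))))) (TL.node (TL.node (TL.node (TL.node (TL.node (TL.leaf []) (TL.leaf [])) (TL.leaf [])) (TL.node (TL.leaf []) (TL.leaf []))) (TL.node (TL.node (TL.node (TL.leaf []) (TL.leaf [])) (TL.leaf [])) (TL.node (TL.leaf []) (TL.leaf [])))) (TL.node (TL.node (TL.node (TL.node (TL.leaf []) (TL.leaf [])) (TL.leaf [])) (TL.node (TL.leaf []) (TL.leaf []))) (TL.node (TL.node (TL.node (TL.leaf [])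 (TL.leaf [])) (TL.leaf [])) (TL.node (TL.leaf []) (TL.leaf []))))))
def U_t5 : TL := (TL.node (TL.node (TL.node (TL.node (TL.node (TL.node (TL.leaf []) (TL.leaf [])) (TL.leaf [])) (TL.node (TL.leaf []) (TL.leaf []))) (TL.node (TL.node (TL.node (TL.leaf []) (TL.leaf [])) (TL.leaf [])) (TL.node (TL.leaf []) (TL.leaf [])))) (TL.node (TL.node (TL.node (TL.node (TL.leaf []) (TL.leaf [])) (TL.leaf [])) (TL.node (TL.leaf []) (TL.leaf []))) (TL.node (TL.node (TL.node (TL.leaf []) (TL.leaf [])) (TL.leaf [])) (TL.node (TL.leaf []) (TL.leaf []))))) (TL.node (TL.node (TL.node (TL.node (TL.node (TL.leaf []) (TL.leaf [])) (TL.leaf [])) (TL.node (TL.leaf []) (TL.leaf []))) (TL.node (TL.node (TL.node (TL.leaf []) (TL.leaf [])) (TL.leaf [])) (TL.node (TL.leaf []) (TL.leaf [])))) (TL.node (TL.node (TL.node (TL.node (TL.leaf []) (TL.leaf [])) (TL.leaf [])) (TL.node (TL.leaf []) (TL.leaf []))) (TL.node (TL.node (TL.node (TL.leaf [])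 (TL.leaf [])) (TL.leaf [])) (TL.node (TL.leaf []) (TL.leaf []))))))
def U_t6 : TL := (TL.node U_t4 U_t5)
def U_t : TL := (TL.node U_t3 U_t6)
noncomputable def U (i : ℕ) : List ℕ := TL.get U_t i
noncomputable def f1 : ℕ → ℕ := mvE Q (nat_lit 24) (nat_lit 2) (nat_lit 4) Zm
theorem b0 : Nat.beq (rng f1 (nat_lit 0) (nat_lit 16)) (nat_lit 0) = true := by decide +kernel
theorem h1 : ∀ i < 16, f1 i = 0 := by
  have h := zero_lt_zero f1
  have h := zero_lt_add (a := (nat_lit 0)) (n := (nat_lit 16)) (b := (nat_lit 16)) h b0 rfl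
  exact h
theorem sy : Sy q 2 4 R := md.sy' (by decide) (by decide) (upTo_beq (by decide +kernel)) (pr := 16) rfl h1 (by rw [Spor.card11]; decide)
noncomputable def f2 : ℕ → ℕ := ncE Q (nat_lit 24) (nat_lit 3) (nat_lit 4) (nat_lit 8) Zc
theorem c0 : Nat.beq (rng f2 (nat_lit 0) (nat_lit 16)) (nat_lit 0) = true := by decide +kernel
theorem h2 : ∀ i < 16, f2 i = 0 := by
  have h := zero_lt_zero f2
  have h := zero_lt_add (a := (nat_lit 0)) (n := (nat_lit 16)) (b := (nat_lit 16)) h c0 rfl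
  exact h
def sg (i : ℕ) : ℕ := Nat.land (Nat.shiftRight (nat_lit 34661) (Nat.mul (nat_lit 4) i)) (nat_lit 15)
def si (i : ℕ) : ℕ := Nat.land (Nat.shiftRight (nat_lit 30806) (Nat.mul (nat_lit 4) i)) (nat_lit 15)
def V_t : TN := (TN.leaf (nat_lit 0xe4409720b4948c0a06640702139149c0a1ac60f531191403481ec616828b514c98c0463709301b903d8a4506000100e0c8a0a0c6408c32d29859ca04051ca284b98a94c018302518e11417482ca508f30048c09860e647293111940a8a12c422628ce142a4a000109c206e1402080c4403620110c05c6cb2603d2045140c8832c500d18451019884be50df284610630a6e0658d3014900a4a2c6503d2946983dca190500710100c0000040400510ba940d4a012200f18040c2208032300810c414960a00210a328010c19480b0408232cb98324a112406720539403c847a63da31ec1a5a8c51e602a202d1002880b8425a281110024800410a830018c5cca2c05003104c102a0a04e3027206d1418081064025286c96288cb4060021012908cca114602228b11473ca06e508f280610c8cc132500a1c4799960c0be405920501423c800c20a5280c0c964a050408d2139948a4cb2c6023201194098802c3))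
noncomputable def V (i : ℕ) : ℕ := get9 V_t (nat_lit 17) (nat_lit 131071) i
noncomputable def f3 : ℕ → ℕ := clE Q sg si (nat_lit 24) (nat_lit 0) [nat_lit 17, nat_lit 1, nat_lit 16, nat_lit 12] V
theorem d0 : Nat.beq (rng f3 (nat_lit 0) (nat_lit 164)) (nat_lit 0) = true := by decide +kernel
theorem h3 : ∀ i < 164, f3 i = 0 := by
  have h := zero_lt_zero f3
  have h := zero_lt_add (a := (nat_lit 0)) (n := (nat_lit 164)) (b := (nat_lit 164)) h d0 rfl
  exact h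
theorem loc : Loc q 3 4 5 R := md.loc sy (by decide) (ps := 8) (pr := 16) ⟨rfl, rfl⟩ h2 (U := U)
  (upTo_beq (by decide +kernel)) (l := [([nat_lit 3, nat_lit 4, nat_lit 1], (nat_lit 3))]) (by decide +kernel) ⟨by decide, by decide⟩
  (md.cls (by decide +kernel) h3 fun _ _ => trivial) (by rw [Spor.card11]; decide)
def cH_t : TL := (TL.node (TL.leaf []) (TL.leaf [nat_lit 0, nat_lit 4]))
noncomputable def cH (i : ℕ) : List ℕ := TL.get cH_t i
def cI_t : TL := (TL.node (TL.leaf []) (TL.leaf [nat_lit 4, nat_lit 0]))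
noncomputable def cI (i : ℕ) : List ℕ := TL.get cI_t i
def cW_t : TL := (TL.node (TL.leaf []) (TL.leaf [nat_lit 3]))
noncomputable def cW (i : ℕ) : List ℕ := TL.get cW_t i
def cE (i : ℕ) : ℕ := Nat.land (Nat.shiftRight (nat_lit 2) (Nat.mul (nat_lit 1) i)) (nat_lit 1)
theorem core : Core q 3 4 5 := md.core (k := 1) loc (by decide) (H := cH) (H' := cI) (W := cW) (E := cE) (pk := 2) rfl
  (upTo_beq (by decide +kernel))

end Cfsg.Agent.Ct.M11o
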